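import Groth.Agent.Fano.K745.ConDef
import Groth.Prelude.Def_AlgSt4
import Groth.Prelude.Def_CurvBase

/-!
# Stable maps of genus zero to a hypersurface: definitions (S16940, stack side)

* `Mst G r e`: the category of stable maps of genus `0` and degree `e` with `r` marked points to `V_+(G)`;
* `lc f x φ l = Σ_i φ_{l,i} x_i`: sections with coefficients on the base;
* `addM A y`: the pointed family `A` with `m` more sections `y`;
* `IsPre A`: the family `A` of `N`-pointed curves is prestable of genus `0`;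
* `CrvChart k N`: a family `B` of prestable `N`-pointed curves of genus `0` whose product with each such family exists, with
  etale projection (an etale chart of the stack of prestable `N`-pointed curves);
* `LinChart c G r e`: an invertible module `L` of fibre degree `e` on the universal curve, with a basis `ε` of its sections, and
  the equations `P` of the sections at which `G` vanishes; each component of a fibre at which `L` is trivial has three special
  points, so the maps given by `L` are stable;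
* `Datum ℓ A`: a presentation of the family `A` of maps: more sections `y`, a cartesian morphism to the universal curve, and the
  matrix `φ` of the map; `IsPull D' D g`: the datum `D'` is the pullback of `D` along `g`;
* `Univ ℓ`: a universal family with a datum.
-/

set_option autoImplicit false

universe u

open CategoryTheory CategoryTheory.Limits AlgebraicGeometry

namespace K505.KonDef

open K390.PnSec Groth.Agent.Fdesc.LocGen K188.LineDef K745.ConDef W4swstmapratcurves

section Basic

variable {k : Type u} [Field k] {n d : ℕ}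

/-- The category of stable maps of genus `0` and degree `e` with `r` marked points to the hypersurface. -/
noncomputable abbrev Mst (G : LefPen.Form n k d) (r e : ℕ) : AlgSt.Cat (Spec (CommRingCat.of k)) :=
  StMap.MapSt (Spec (CommRingCat.of k)) (hypOver G) (hypO1 G) 0 r (e : ℤ)

/-- Families of pointed maps to the hypersurface. -/
abbrev Fam (G : LefPen.Form n k d) (r : ℕ) : Type (u + 1) :=
  StMap.MapFamObj (Spec (CommRingCat.of k)) r (hypOver G)

/-- The sections `Σ_i φ_{l,i} x_i`. -/
noncomputable def lc {T C : Scheme.{u}} (f : C ⟶ T) {L : C.Modules} {e : ℕ} (x : Fin (e + 1) → Γ(L, ⊤))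
    (φ : Fin (n + 1) → Fin (e + 1) → Γ(T, ⊤)) (l : Fin (n + 1)) : Γ(L, ⊤) := ∑ i, (f.appTop (φ l i)) • x i

/-- The pointed family `A` with the sections `y` added. -/
def addM {S : Scheme.{u}} {r m : ℕ} (A : CurvSt.PtFamObj S r) (y : Fin m → (A.base.left ⟶ A.C))
    (hy : ∀ i, y i ≫ A.f = 𝟙 A.base.left) : CurvSt.PtFamObj S (r + m) where
  base := A.base
  C := A.C
  f := A.f
  sect := Fin.addCases A.sect y
  sect_f i := by
    refine Fin.addCases (fun i => ?_) (fun i => ?_) i
    · rw [Fin.addCases_left]; exact A.sect_f i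
    · rw [Fin.addCases_right]; exact hy i

/-- The family `A` of pointed curves is prestable of genus `0`. -/
def IsPre {S : Scheme.{u}} {N : ℕ} (A : CurvSt.PtFamObj S N) : Prop :=
  Flat A.f ∧ IsProper A.f ∧ LocallyOfFinitePresentation A.f ∧
    ∀ (Ω : Type u) [Field Ω] [IsAlgClosed Ω] (t : Spec (CommRingCat.of Ω) ⟶ A.base.left) (Xt : Scheme.{u})
      (i : Xt ⟶ A.C) (q : Xt ⟶ Spec (CommRingCat.of Ω)) (hP : IsPullback i q A.f t),
      StMap.IsPrestablePtd Ω Xt q 0 (CurvSt.markedPt A.sect A.sect_f hP)

end Basic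

section Charts

variable (k : Type u) [Field k] (N : ℕ)

/-- An etale chart of the stack of prestable `N`-pointed curves of genus `0`. -/
structure CrvChart where
  /-- the family -/
  B : CurvSt.PtFamObj (Spec (CommRingCat.of k)) N
  isPre : IsPre B
  isAffine : IsAffine B.base.left
  locallyOfFiniteType : LocallyOfFiniteType B.base.hom
  prod : ∀ Y : CurvSt.PtFamObj (Spec (CommRingCat.of k)) N, IsPre Y →
    ∃ (Z : CurvSt.PtFamObj (Spec (CommRingCat.of k)) N) (α : Z ⟶ B) (β : Z ⟶ Y),
      (∀ (Z' : CurvSt.PtFamObj (Spec (CommRingCat.of k)) N) (a : Z' ⟶ B) (b : Z' ⟶ Y),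
        ∃! z : Z' ⟶ Z, z ≫ α = a ∧ z ≫ β = b) ∧ Etale β.base.left

variable {k N}

/-- The base of the chart. -/
abbrev CrvChart.U (c : CrvChart k N) : Over (Spec (CommRingCat.of k)) := c.B.base

/-- The universal curve of the chart. -/
abbrev CrvChart.C (c : CrvChart k N) : Scheme.{u} := c.B.C

/-- The universal curve of the chart. -/
abbrev CrvChart.f (c : CrvChart k N) : c.C ⟶ c.U.left := c.B.f

/-- The ring of the base of the chart. -/
noncomputable abbrev CrvChart.R (c : CrvChart k N) : Type u := Γ(c.U.left, ⊤)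

variable {r m : ℕ}

/-- An invertible module on the universal curve, with a basis of its sections and the equations of the sections at which the
form `G` vanishes. -/
structure LinChart (c : CrvChart k (r + m)) {n d : ℕ} (G : LefPen.Form n k d) (e : ℕ) where
  /-- the module -/
  L : c.C.Modules
  inv : PicF.IsInvertible L
  /-- the basis of the sections -/
  ε : Fin (e + 1) → Γ(L, ⊤)
  basis : ∀ {T C' : Scheme.{u}} (i : C' ⟶ c.C) (f' : C' ⟶ T) (g : T ⟶ c.U.left), IsPullback i f' c.f g →
    ∀ s : Γ((Scheme.Modules.pullback i).obj L, ⊤), ∃! a : Fin (e + 1) → Γ(T, ⊤),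
      s = ∑ j, (f'.appTop (a j)) • pullTop i (ε j)
  deg : ∀ (Ω : Type u) [Field Ω] [IsAlgClosed Ω] (t : Spec (CommRingCat.of Ω) ⟶ c.U.left) (Xt : Scheme.{u})
    (i : Xt ⟶ c.C) (q : Xt ⟶ Spec (CommRingCat.of Ω)), IsPullback i q c.f t →
    letI : Xt.Over (Spec (CommRingCat.of Ω)) := ⟨q⟩
    Curv2.deg Ω Xt ((Scheme.Modules.pullback i).obj L) 1 = e
  stab : ∀ (Ω : Type u) [Field Ω] [IsAlgClosed Ω] (t : Spec (CommRingCat.of Ω) ⟶ c.U.left) (Xt : Scheme.{u})
    (i : Xt ⟶ c.C) (q : Xt ⟶ Spec (CommRingCat.of Ω)) (hP : IsPullback i q c.f t) (E : Set Xt),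
    CurvSt.IsSmRatComp Ω Xt q E →
    (∃ s : Γ((Scheme.Modules.pullback i).obj L, ⊤), E ⊆ (CohB1.genLocus _ (homOf s) : Set Xt)) →
    (3 : ℕ∞) ≤ (CurvSt.meetPts Xt E).encard +
      (Nat.card {j : Fin r // CurvSt.markedPt c.B.sect c.B.sect_f hP (Fin.castAdd m j) ∈ E} : ℕ∞)
  /-- the equations -/
  P : Fin (d * e + 1) → MvPolynomial (Fin (n + 1) × Fin (e + 1)) c.R
  P_iff : ∀ {T C' : Scheme.{u}} (i : C' ⟶ c.C) (f' : C' ⟶ T) (g : T ⟶ c.U.left), IsPullback i f' c.f g →
    ∀ φ : Fin (n + 1) → Fin (e + 1) → Γ(T, ⊤),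
      Van f' (lc f' (fun j => pullTop i (ε j)) φ) (G.1.map (kmap (g ≫ c.U.hom))) ↔
        ∀ m, MvPolynomial.eval₂ g.appTop.hom (fun p => φ p.1 p.2) (P m) = 0

variable {c : CrvChart k (r + m)} {n d : ℕ} {G : LefPen.Form n k d} {e : ℕ}

/-- The ring of pairs: a point of the base of the chart, and a matrix `φ` such that `G` vanishes at the sections of `φ`. -/
abbrev LinChart.RV (ℓ : LinChart c G e) : Type u :=
  MvPolynomial (Fin (n + 1) × Fin (e + 1)) c.R ⧸ Ideal.span (Set.range ℓ.P)

/-- The morphism from the spectrum of `RV` to the base of the chart. -/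
noncomputable def LinChart.toU (ℓ : LinChart c G e) : Spec (CommRingCat.of ℓ.RV) ⟶ c.U.left :=
  haveI := c.isAffine
  Spec.map (CommRingCat.ofHom (algebraMap c.R ℓ.RV)) ≫ (c.U.left.isoSpec).inv

/-- The matrix `φ` of a morphism to the spectrum of `RV`. -/
noncomputable def LinChart.φAt (ℓ : LinChart c G e) {T : Scheme.{u}} (u : T ⟶ Spec (CommRingCat.of ℓ.RV))
    (l : Fin (n + 1)) (i : Fin (e + 1)) : Γ(T, ⊤) :=
  u.appTop ((Scheme.ΓSpecIso (CommRingCat.of ℓ.RV)).inv (Ideal.Quotient.mk _ (MvPolynomial.X (l, i))))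

end Charts

section Data

variable {k : Type u} [Field k] {r m n d e : ℕ} {G : LefPen.Form n k d} {c : CrvChart k (r + m)}

/-- A presentation of a family of maps to the hypersurface. -/
structure Datum (ℓ : LinChart c G e) (A : Fam G r) where
  /-- the additional sections -/
  y : Fin m → (A.base.left ⟶ A.C)
  hy : ∀ i, y i ≫ A.f = 𝟙 A.base.left
  /-- the morphism to the universal curve -/
  h : addM A.toPtFamObj y hy ⟶ c.B
  /-- the matrix of the map -/
  φ : Fin (n + 1) → Fin (e + 1) → Γ(A.base.left, ⊤)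
  givenBy : GivenBy (A.map ≫ (LefPen.hypIdeal G).subschemeι) ((Scheme.Modules.pullback h.top).obj ℓ.L)
    (lc A.f (fun j => pullTop h.top (ℓ.ε j)) φ)

variable {ℓ : LinChart c G e}

/-- The datum `D'` is the pullback of the datum `D` along `g`. -/
structure IsPull {A' A : Fam G r} (D' : Datum ℓ A') (D : Datum ℓ A) (g : A' ⟶ A) : Prop where
  y : ∀ i, D'.y i ≫ g.hom.top = g.hom.base.left ≫ D.y i
  top : D'.h.top = g.hom.top ≫ D.h.top
  base : D'.h.base = g.hom.base ≫ D.h.base
  φ : ∀ l i, D'.φ l i = g.hom.base.left.appTop (D.φ l i)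

variable (ℓ) in
/-- A universal family with a datum: its base is an open subscheme of the spectrum of `RV`. -/
structure Univ where
  /-- the family -/
  A : (Mst G r e).obj
  /-- the datum -/
  D : Datum ℓ A.obj
  univ : ∀ (Y : (Mst G r e).obj) (D' : Datum ℓ Y.obj), ∃! g : Y ⟶ A, IsPull D' D g.hom
  /-- the open immersion -/
  j : A.obj.base.left ⟶ Spec (CommRingCat.of ℓ.RV)
  isOpenImmersion : IsOpenImmersion j
  base : D.h.base.left = j ≫ ℓ.toU
  φ : ∀ l i, D.φ l i = ℓ.φAt j l i

end Data

end K505.KonDef
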